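import Cfsg.Agent.Lib.ToddCox.Fi22C2.Data0
set_option autoImplicit false
set_option maxRecDepth 100000
namespace Cfsg.Agent.Lib.ToddCox.Fi22C2
def eT_0_2 (j : ℕ) : ℕ := bif Nat.blt j 1 then E_0 else E_1
def eT_3_5 (j : ℕ) : ℕ := bif Nat.blt j 4 then E_3 else E_4
def eT_2_5 (j : ℕ) : ℕ := bif Nat.blt j 3 then E_2 else (eT_3_5 j)
def eT_0_5 (j : ℕ) : ℕ := bif Nat.blt j 2 then (eT_0_2 j) else (eT_2_5 j)
def eT_6_8 (j : ℕ) : ℕ := bif Nat.blt j 7 then E_6 else E_7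
def eT_5_8 (j : ℕ) : ℕ := bif Nat.blt j 6 then E_5 else (eT_6_8 j)
def eT_9_11 (j : ℕ) : ℕ := bif Nat.blt j 10 then E_9 else E_10
def eT_8_11 (j : ℕ) : ℕ := bif Nat.blt j 9 then E_8 else (eT_9_11 j)
def eT_5_11 (j : ℕ) : ℕ := bif Nat.blt j 8 then (eT_5_8 j) else (eT_8_11 j)
def eT_0_11 (j : ℕ) : ℕ := bif Nat.blt j 5 then (eT_0_5 j) else (eT_5_11 j)
def eT (j : ℕ) : ℕ := (eT_0_11 j)
noncomputable def chunkF (h : ℕ) : ℕ := Nat.rec (motive := fun _ => ℕ) (eT 0) (fun n _ => eT (Nat.succ n)) h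
noncomputable def Eo (r : ℕ) : ℕ := Nat.land (Nat.shiftRight (chunkF (Nat.shiftRight r 8)) (Nat.mul (Nat.land r 255) 54)) 18014398509481983
def invT : ℕ := 0xffef7cefae78df6d74cf2c70beeb6caeaa689e69648e28607de75c6da6585d65544d24503ce34c2c92881c61440c2040
def inv (y : ℕ) : ℕ := invOf invT y
def Wt_0_2 (j : ℕ) : List ℕ := bif Nat.blt j 1 then [nat_lit 1, nat_lit 7, nat_lit 1, nat_lit 7] else [nat_lit 2, nat_lit 7, nat_lit 2, nat_lit 7]
def Wt_3_5 (j : ℕ) : List ℕ := bif Nat.blt j 4 then [nat_lit 5, nat_lit 7, nat_lit 5, nat_lit 7] else [nat_lit 6, nat_lit 7, nat_lit 6, nat_lit 7]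
def Wt_2_5 (j : ℕ) : List ℕ := bif Nat.blt j 3 then [nat_lit 4, nat_lit 7, nat_lit 4, nat_lit 7] else (Wt_3_5 j)
def Wt_0_5 (j : ℕ) : List ℕ := bif Nat.blt j 2 then (Wt_0_2 j) else (Wt_2_5 j)
def Wt_6_8 (j : ℕ) : List ℕ := bif Nat.blt j 7 then [nat_lit 5, nat_lit 3, nat_lit 5, nat_lit 3] else [nat_lit 6, nat_lit 3, nat_lit 6, nat_lit 3]
def Wt_5_8 (j : ℕ) : List ℕ := bif Nat.blt j 6 then [nat_lit 1, nat_lit 3, nat_lit 1, nat_lit 3] else (Wt_6_8 j)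
def Wt_9_11 (j : ℕ) : List ℕ := bif Nat.blt j 10 then [nat_lit 3, nat_lit 2, nat_lit 3, nat_lit 2, nat_lit 3, nat_lit 2] else [nat_lit 5, nat_lit 2, nat_lit 5, nat_lit 2]
def Wt_8_11 (j : ℕ) : List ℕ := bif Nat.blt j 9 then [nat_lit 7, nat_lit 3, nat_lit 7, nat_lit 3, nat_lit 7, nat_lit 3] else (Wt_9_11 j)
def Wt_5_11 (j : ℕ) : List ℕ := bif Nat.blt j 8 then (Wt_5_8 j) else (Wt_8_11 j)
def Wt_0_11 (j : ℕ) : List ℕ := bif Nat.blt j 5 then (Wt_0_5 j) else (Wt_5_11 j)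
def Wt_12_14 (j : ℕ) : List ℕ := bif Nat.blt j 13 then [nat_lit 7, nat_lit 2, nat_lit 7, nat_lit 2] else [nat_lit 1, nat_lit 4, nat_lit 1, nat_lit 4]
def Wt_11_14 (j : ℕ) : List ℕ := bif Nat.blt j 12 then [nat_lit 6, nat_lit 2, nat_lit 6, nat_lit 2] else (Wt_12_14 j)
def Wt_15_17 (j : ℕ) : List ℕ := bif Nat.blt j 16 then [nat_lit 6, nat_lit 4, nat_lit 6, nat_lit 4] else [nat_lit 7, nat_lit 4, nat_lit 7, nat_lit 4]
def Wt_14_17 (j : ℕ) : List ℕ := bif Nat.blt j 15 then [nat_lit 3, nat_lit 4, nat_lit 3, nat_lit 4, nat_lit 3, nat_lit 4] else (Wt_15_17 j)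
def Wt_11_17 (j : ℕ) : List ℕ := bif Nat.blt j 14 then (Wt_11_14 j) else (Wt_14_17 j)
def Wt_18_20 (j : ℕ) : List ℕ := bif Nat.blt j 19 then [nat_lit 3, nat_lit 1, nat_lit 3, nat_lit 1] else [nat_lit 5, nat_lit 1, nat_lit 5, nat_lit 1]
def Wt_17_20 (j : ℕ) : List ℕ := bif Nat.blt j 18 then [nat_lit 2, nat_lit 1, nat_lit 2, nat_lit 1, nat_lit 2, nat_lit 1] else (Wt_18_20 j)
def Wt_21_23 (j : ℕ) : List ℕ := bif Nat.blt j 22 then [nat_lit 7, nat_lit 1, nat_lit 7, nat_lit 1] else [nat_lit 2, nat_lit 4, nat_lit 2, nat_lit 4]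
def Wt_20_23 (j : ℕ) : List ℕ := bif Nat.blt j 21 then [nat_lit 6, nat_lit 1, nat_lit 6, nat_lit 1] else (Wt_21_23 j)
def Wt_17_23 (j : ℕ) : List ℕ := bif Nat.blt j 20 then (Wt_17_20 j) else (Wt_20_23 j)
def Wt_11_23 (j : ℕ) : List ℕ := bif Nat.blt j 17 then (Wt_11_17 j) else (Wt_17_23 j)
def Wt_0_23 (j : ℕ) : List ℕ := bif Nat.blt j 11 then (Wt_0_11 j) else (Wt_11_23 j)
def Wt_23_25 (j : ℕ) : List ℕ := bif Nat.blt j 24 then [nat_lit 1, nat_lit 5, nat_lit 1, nat_lit 5] else [nat_lit 3, nat_lit 5, nat_lit 3, nat_lit 5]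
def Wt_26_28 (j : ℕ) : List ℕ := bif Nat.blt j 27 then [nat_lit 7, nat_lit 5, nat_lit 7, nat_lit 5] else [nat_lit 2, nat_lit 3, nat_lit 2, nat_lit 3, nat_lit 2, nat_lit 3]
def Wt_25_28 (j : ℕ) : List ℕ := bif Nat.blt j 26 then [nat_lit 4, nat_lit 5, nat_lit 4, nat_lit 5, nat_lit 4, nat_lit 5] else (Wt_26_28 j)
def Wt_23_28 (j : ℕ) : List ℕ := bif Nat.blt j 25 then (Wt_23_25 j) else (Wt_25_28 j)
def Wt_29_31 (j : ℕ) : List ℕ := bif Nat.blt j 30 then [nat_lit 2, nat_lit 5, nat_lit 2, nat_lit 5] else [nat_lit 1, nat_lit 6, nat_lit 1, nat_lit 6]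
def Wt_28_31 (j : ℕ) : List ℕ := bif Nat.blt j 29 then [nat_lit 4, nat_lit 3, nat_lit 4, nat_lit 3, nat_lit 4, nat_lit 3] else (Wt_29_31 j)
def Wt_32_34 (j : ℕ) : List ℕ := bif Nat.blt j 33 then [nat_lit 4, nat_lit 6, nat_lit 4, nat_lit 6] else [nat_lit 5, nat_lit 6, nat_lit 5, nat_lit 6, nat_lit 5, nat_lit 6]
def Wt_31_34 (j : ℕ) : List ℕ := bif Nat.blt j 32 then [nat_lit 3, nat_lit 6, nat_lit 3, nat_lit 6] else (Wt_32_34 j)
def Wt_28_34 (j : ℕ) : List ℕ := bif Nat.blt j 31 then (Wt_28_31 j) else (Wt_31_34 j)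
def Wt_23_34 (j : ℕ) : List ℕ := bif Nat.blt j 28 then (Wt_23_28 j) else (Wt_28_34 j)
def Wt_35_37 (j : ℕ) : List ℕ := bif Nat.blt j 36 then [nat_lit 3, nat_lit 7, nat_lit 3, nat_lit 7, nat_lit 3, nat_lit 7] else [nat_lit 2, nat_lit 6, nat_lit 2, nat_lit 6]
def Wt_34_37 (j : ℕ) : List ℕ := bif Nat.blt j 35 then [nat_lit 7, nat_lit 6, nat_lit 7, nat_lit 6] else (Wt_35_37 j)
def Wt_38_40 (j : ℕ) : List ℕ := bif Nat.blt j 39 then [nat_lit 4, nat_lit 2, nat_lit 4, nat_lit 2] else [nat_lit 5, nat_lit 4, nat_lit 5, nat_lit 4, nat_lit 5, nat_lit 4]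
def Wt_37_40 (j : ℕ) : List ℕ := bif Nat.blt j 38 then [nat_lit 1, nat_lit 2, nat_lit 1, nat_lit 2, nat_lit 1, nat_lit 2] else (Wt_38_40 j)
def Wt_34_40 (j : ℕ) : List ℕ := bif Nat.blt j 37 then (Wt_34_37 j) else (Wt_37_40 j)
def Wt_41_43 (j : ℕ) : List ℕ := bif Nat.blt j 42 then [nat_lit 4, nat_lit 1, nat_lit 4, nat_lit 1] else [nat_lit 7, nat_lit 1, nat_lit 2, nat_lit 3, nat_lit 4, nat_lit 5, nat_lit 6, nat_lit 7, nat_lit 1, nat_lit 2, nat_lit 3, nat_lit 4, nat_lit 5, nat_lit 6, nat_lit 7, nat_lit 1, nat_lit 2, nat_lit 3, nat_lit 4, nat_lit 5, nat_lit 6, nat_lit 7, nat_lit 1, nat_lit 2, nat_lit 3, nat_lit 4, nat_lit 5, nat_lit 6, nat_lit 7, nat_lit 1, nat_lit 2, nat_lit 3, nat_lit 4, nat_lit 5, nat_lit 6, nat_lit 7, nat_lit 1, nat_lit 2, nat_lit 3, nat_lit 4, nat_lit 5, nat_lit 6, nat_lit 7, nat_lit 1, nat_lit 2, nat_lit 3, nat_lit 4, nat_lit 5, nat_lit 6, nat_lit 7, nat_lit 1,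 nat_lit 2, nat_lit 3, nat_lit 4, nat_lit 5, nat_lit 6, nat_lit 7, nat_lit 1, nat_lit 2, nat_lit 3, nat_lit 4, nat_lit 5, nat_lit 6]
def Wt_40_43 (j : ℕ) : List ℕ := bif Nat.blt j 41 then [nat_lit 6, nat_lit 5, nat_lit 6, nat_lit 5, nat_lit 6, nat_lit 5] else (Wt_41_43 j)
def Wt_44_46 (j : ℕ) : List ℕ := bif Nat.blt j 45 then [nat_lit 6, nat_lit 7, nat_lit 1, nat_lit 2, nat_lit 3, nat_lit 4, nat_lit 5, nat_lit 6, nat_lit 7, nat_lit 1, nat_lit 2, nat_lit 3, nat_lit 4, nat_lit 5, nat_lit 6, nat_lit 7, nat_lit 1, nat_lit 2, nat_lit 3, nat_lit 4, nat_lit 5, nat_lit 6, nat_lit 7, nat_lit 1, nat_lit 2, nat_lit 3, nat_lit 4, nat_lit 5, nat_lit 6, nat_lit 7, nat_lit 1, nat_lit 2, nat_lit 3, nat_lit 4, nat_lit 5, nat_lit 6, nat_lit 7, nat_lit 1, nat_lit 2, nat_lit 3, nat_lit 4, nat_lit 5, nat_lit 6, nat_lit 7, nat_lit 1, nat_lit 2, nat_lit 3, nat_lit 4, nat_lit 5, nat_lit 6, nat_lit 7, nat_lit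 1, nat_lit 2, nat_lit 3, nat_lit 4, nat_lit 5, nat_lit 6, nat_lit 7, nat_lit 1, nat_lit 2, nat_lit 3, nat_lit 4, nat_lit 5] else [nat_lit 5, nat_lit 4, nat_lit 3, nat_lit 2, nat_lit 1, nat_lit 7, nat_lit 6, nat_lit 5, nat_lit 4, nat_lit 3, nat_lit 2, nat_lit 1, nat_lit 7, nat_lit 6, nat_lit 5, nat_lit 4, nat_lit 3, nat_lit 2, nat_lit 1, nat_lit 7, nat_lit 6, nat_lit 5, nat_lit 4, nat_lit 3, nat_lit 2, nat_lit 1, nat_lit 7, nat_lit 6, nat_lit 5, nat_lit 4, nat_lit 3, nat_lit 2, nat_lit 1, nat_lit 7, nat_lit 6, nat_lit 5, nat_lit 4, nat_lit 3, nat_lit 2, nat_lit 1, nat_lit 7, nat_lit 6, nat_lit 5, nat_lit 4, nat_lit 3, nat_lit 2, nat_lit 1, nat_lit 7, nat_lit 6, nat_lit 5, nat_lit 4, nat_lit 3, nat_lit 2, nat_lit 1, nat_lit 7, nat_lit 6, nat_lit 5, nat_lit 4, nat_lit 3, nat_lit 2, nat_lit 1, nat_lit 7, nat_lit 6]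
def Wt_43_46 (j : ℕ) : List ℕ := bif Nat.blt j 44 then [nat_lit 3, nat_lit 2, nat_lit 1, nat_lit 7, nat_lit 6, nat_lit 5, nat_lit 4, nat_lit 3, nat_lit 2, nat_lit 1, nat_lit 7, nat_lit 6, nat_lit 5, nat_lit 4, nat_lit 3, nat_lit 2, nat_lit 1, nat_lit 7, nat_lit 6, nat_lit 5, nat_lit 4, nat_lit 3, nat_lit 2, nat_lit 1, nat_lit 7, nat_lit 6, nat_lit 5, nat_lit 4, nat_lit 3, nat_lit 2, nat_lit 1, nat_lit 7, nat_lit 6, nat_lit 5, nat_lit 4, nat_lit 3, nat_lit 2, nat_lit 1, nat_lit 7, nat_lit 6, nat_lit 5, nat_lit 4, nat_lit 3, nat_lit 2, nat_lit 1, nat_lit 7, nat_lit 6, nat_lit 5, nat_lit 4, nat_lit 3, nat_lit 2, nat_lit 1, nat_lit 7, nat_lit 6, nat_lit 5, nat_lit 4, nat_lit 3, nat_lit 2, nat_lit 1, nat_lit 7, nat_lit 6, nat_lit 5, nat_lit 4] else (Wt_44_46 j)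
def Wt_40_46 (j : ℕ) : List ℕ := bif Nat.blt j 43 then (Wt_40_43 j) else (Wt_43_46 j)
def Wt_34_46 (j : ℕ) : List ℕ := bif Nat.blt j 40 then (Wt_34_40 j) else (Wt_40_46 j)
def Wt_23_46 (j : ℕ) : List ℕ := bif Nat.blt j 34 then (Wt_23_34 j) else (Wt_34_46 j)
def Wt_0_46 (j : ℕ) : List ℕ := bif Nat.blt j 23 then (Wt_0_23 j) else (Wt_23_46 j)
def Wt (j : ℕ) : List ℕ := (Wt_0_46 j)
def W (j : ℕ) : List ℕ := bif Nat.blt j 46 then Wt j else []
theorem W_ge (j : ℕ) (h : 46 ≤ j) : W j = [] := by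
  unfold W
  rw [blt_false_of_le h]
  rfl
def Hl : List ℕ := [nat_lit 1, nat_lit 2, nat_lit 3, nat_lit 4, nat_lit 5, nat_lit 6]
def isH (y : ℕ) : Bool := List.elem y Hl
def Rb : List (List ℕ) := [[nat_lit 1, nat_lit 1],
  [nat_lit 2, nat_lit 1, nat_lit 2, nat_lit 1, nat_lit 2, nat_lit 1],
  [nat_lit 3, nat_lit 1, nat_lit 3, nat_lit 1],
  [nat_lit 4, nat_lit 1, nat_lit 4, nat_lit 1],
  [nat_lit 5, nat_lit 1, nat_lit 5, nat_lit 1],
  [nat_lit 6, nat_lit 1, nat_lit 6, nat_lit 1],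
  [nat_lit 7, nat_lit 1, nat_lit 7, nat_lit 1],
  [nat_lit 2, nat_lit 2],
  [nat_lit 3, nat_lit 2, nat_lit 3, nat_lit 2, nat_lit 3, nat_lit 2],
  [nat_lit 4, nat_lit 2, nat_lit 4, nat_lit 2],
  [nat_lit 5, nat_lit 2, nat_lit 5, nat_lit 2],
  [nat_lit 6, nat_lit 2, nat_lit 6, nat_lit 2],
  [nat_lit 7, nat_lit 2, nat_lit 7, nat_lit 2],
  [nat_lit 3, nat_lit 3],
  [nat_lit 4, nat_lit 3, nat_lit 4, nat_lit 3, nat_lit 4, nat_lit 3],
  [nat_lit 5, nat_lit 3, nat_lit 5, nat_lit 3],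
  [nat_lit 6, nat_lit 3, nat_lit 6, nat_lit 3],
  [nat_lit 7, nat_lit 3, nat_lit 7, nat_lit 3, nat_lit 7, nat_lit 3],
  [nat_lit 4, nat_lit 4],
  [nat_lit 5, nat_lit 4, nat_lit 5, nat_lit 4, nat_lit 5, nat_lit 4],
  [nat_lit 6, nat_lit 4, nat_lit 6, nat_lit 4],
  [nat_lit 7, nat_lit 4, nat_lit 7, nat_lit 4],
  [nat_lit 5, nat_lit 5],
  [nat_lit 6, nat_lit 5, nat_lit 6, nat_lit 5, nat_lit 6, nat_lit 5],
  [nat_lit 7, nat_lit 5, nat_lit 7, nat_lit 5],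
  [nat_lit 6, nat_lit 6],
  [nat_lit 7, nat_lit 6, nat_lit 7, nat_lit 6],
  [nat_lit 7, nat_lit 7],
  [nat_lit 7, nat_lit 6, nat_lit 5, nat_lit 4, nat_lit 3, nat_lit 2, nat_lit 1, nat_lit 7, nat_lit 6, nat_lit 5, nat_lit 4, nat_lit 3, nat_lit 2, nat_lit 1, nat_lit 7, nat_lit 6, nat_lit 5, nat_lit 4, nat_lit 3, nat_lit 2, nat_lit 1, nat_lit 7, nat_lit 6, nat_lit 5, nat_lit 4, nat_lit 3, nat_lit 2, nat_lit 1, nat_lit 7, nat_lit 6, nat_lit 5, nat_lit 4, nat_lit 3, nat_lit 2, nat_lit 1, nat_lit 7, nat_lit 6, nat_lit 5, nat_lit 4, nat_lit 3, nat_lit 2, nat_lit 1, nat_lit 7, nat_lit 6, nat_lit 5, nat_lit 4, nat_lit 3, nat_lit 2, nat_lit 1, nat_lit 7, nat_lit 6, nat_lit 5, nat_lit 4, nat_lit 3, nat_lit 2, nat_lit 1, nat_lit 7, nat_lit 6, nat_lit 5, nat_lit 4, nat_lit 3, nat_lit 2, nat_lit 1],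
  []]
def spT (j : ℕ) : ℕ := nat_lit 0x60380000c0390000a03800000039000020060000202e0000202600002012000000020000001600000022000020340000002e00000028000000200000000a000000140000201c0000001000002030000000260000001e00000008000000120000200c0000200a0000200800002004000020020000202a000020280000001c000000060000201800002016000020140000201000002022000020200000201e0000000400000034000000300000002a000000180000000c
def sp (j : ℕ) : ℕ := Nat.land (Nat.shiftRight (spT (Nat.shiftRight j 6)) (Nat.mul (Nat.land j 63) 32)) 4294967295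
theorem Eo_lt (r : ℕ) : Eo r < 18014398509481984 := land54_lt _
def cT_1_3 (j : ℕ) : ℕ := bif Nat.blt j 2 then nat_lit 0xff0000fe0000fd0000fc0000fb0000fa0000f90000f80000f70000f60000f50000f40000f30000f20000f10000f00000ef0000ee0000ed0000ec0000eb0000ea0000e90000e80000e70000e60000e50000e40000e30000e20000e10000e00000df0000de0000dd0000dc0000db0000da0000d90000d80000d70000d60000d50000d40000d30000d20000d10000d00000cf0000ce0000cd0000cc0000cb0000ca0000c90000c80000c70000c60000c50000c40000c30000c20000c10000c00000bf0000be0000bd0000bc0000bb0000ba0000b90000b80000b70000b60000b50000b40000b30000b20000b10000b00000af0000ae0000ad0000ac0000ab0000aa0000a90000a80000a70000a60000a50000a40000a30000a20000a10000a000009f00009e00009d00009c00009b00009a00009900009800009700009600009500009400009300009200009100009000008f00008e00008d00008c00008b00008a000089000088000087000086000085000084000083000082000081000080 else nat_lit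 0x11f00011e00011d00011c00011b00011a00011900011800011700011600011500011400011300011200011100011000010f00010e00010d00010c00010b00010a000109000108000107000106000105000104000103000102000101000100
def cT_0_3 (j : ℕ) : ℕ := bif Nat.blt j 1 then nat_lit 0x7f00007e00007d00007c00007b00007a00007900007800007700007600007500007400007300007200007100007000006f00006e00006d00006c00006b00006a00006900006800006700006600006500006400006300006200006100006000005f00005e00005d00005c00005b00005a00005900005800005700005600005500005400005300005200005100005000004f00004e00004d00004c00004b00004a00004900004800004700004600004500004400004300004200004100004000003f00003e00003d00003c00003b00003a00003900003800003700003600003500003400003300003200003100003000002f00002e00002d00002c00002b00002a00002900002800002700002600002500002400002300002200002100002000001f00001e00001d00001c00001b00001a00001900001800001700001600001500001400001300001200001100001000000f00000e00000d00000c00000b00000a000009000008000007000006000005000004000003000002000001000000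 else (cT_1_3 j)
def cT (j : ℕ) : ℕ := (cT_0_3 j)
noncomputable def cChunk (h : ℕ) : ℕ := Nat.rec (motive := fun _ => ℕ) (cT 0) (fun n _ => cT (Nat.succ n)) h
noncomputable def cF (i : ℕ) : ℕ := Nat.land (Nat.shiftRight (cChunk (Nat.shiftRight i 7)) (Nat.mul (Nat.land i 127) 24)) 16777215
theorem cF_lt (i : ℕ) : cF i < 16777216 := land24_lt _
theorem cF_zero : cF 0 = 0 := by decide +kernel
def nDef : ℕ := 287
def nEv : ℕ := 1344
def nW : ℕ := 46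
def N : ℕ := 288
def ys : List ℕ := [nat_lit 1, nat_lit 2, nat_lit 3, nat_lit 4, nat_lit 5, nat_lit 6, nat_lit 7]
def Js : List ℕ := [nat_lit 1, nat_lit 2, nat_lit 3, nat_lit 4, nat_lit 5, nat_lit 6, nat_lit 7]
def Jp : List ℕ := [nat_lit 1, nat_lit 2, nat_lit 3, nat_lit 4, nat_lit 5, nat_lit 6]
end Cfsg.Agent.Lib.ToddCox.Fi22C2
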